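import Groth.Agent.RedQuot.Main
import Groth.Agent.UniRad.Semisimple
import Groth.Agent.UniRad.Radical
import Groth.Agent.UniRad.NonConn
import Groth.Agent.RedCent.Reductive
import Groth.Agent.GModLib.Radical
import Groth.Agent.Chev.NonAffine
import Groth.Agent.Chev.BorelTools
import Groth.Agent.GrpBasic.Perfect
import Groth.Agent.S3278
import Groth.Agent.S3280

/-!
# Solvable parts and quotients
-/

set_option autoImplicit false
set_option backward.isDefEq.respectTransparency false
set_option linter.style.haveILetI false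
set_option linter.unusedSectionVars false
set_option maxHeartbeats 1000000
set_option synthInstance.maxHeartbeats 200000

universe u

open CategoryTheory CategoryTheory.Limits MonoidalCategory CartesianMonoidalCategory MonObj GrpObj AlgebraicGeometry
open Groth.Agent.SubGen (rpt map_rpt exists_rpt)

noncomputable section

namespace Groth.Agent.SolvPart

open Chev Chev.BorelFixed Chev.Borel RedCartan UniRad RedQuot

variable {k : Type u} [Field k] [IsAlgClosed k]

/-- Extensions of solvable point groups are solvable. -/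
theorem isSolvable_of_ker {A B C G : Over (Spec (CommRingCat.of k))} [GrpObj A] [GrpObj B] [GrpObj C] [GrpObj G]
    (p : A ⟶ B) [IsMonHom p] (a : A ⟶ G) [IsMonHom a] [Mono a] (c : C ⟶ G) [IsMonHom c]
    [Group.IsSolvable (RP B)] [Group.IsSolvable (RP C)]
    (h : ∀ x : RP A, x ≫ p = 1 → ∃ y : RP C, y ≫ c = x ≫ a) : Group.IsSolvable (RP A) := by
  let K : Subgroup (RP A) := (rpHom p).ker
  let R : Subgroup (RP G) := (rpHom c).range
  haveI : Group.IsSolvable R := Group.isSolvable_of_surjective (f := (rpHom c).rangeRestrict)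
    (MonoidHom.rangeRestrict_surjective _)
  let e : K →* R := ((rpHom a).comp K.subtype).codRestrict R fun x => by
    obtain ⟨y, hy⟩ := h x.1 x.2
    exact ⟨y, hy⟩
  haveI : Group.IsSolvable K := Group.isSolvable_of_isSolvable_injective (f := e) fun x y hxy =>
    Subtype.ext ((cancel_mono a).1 (congrArg Subtype.val hxy))
  exact Group.isSolvable_of_ker_le_range K.subtype (rpHom p) (by rw [Subgroup.range_subtype])

variable {G₀ H Q₁ R : Over (Spec (CommRingCat.of k))} [GrpObj G₀] [GrpObj H] [GrpObj Q₁] [GrpObj R]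

/-- The quotient by a subgroup containing all normal connected solvable subgroups has none. -/
theorem eq_one_of_normal_solvable [IsAffine G₀.left] [Smooth G₀.hom] [ConnectedSpace G₀.left]
    [Smooth Q₁.hom] [QuasiCompact Q₁.hom] [ConnectedSpace Q₁.left]
    (j : G₀ ⟶ H) [IsMonHom j] [Mono j] (r₀ : R ⟶ G₀) [IsMonHom r₀] [Group.IsSolvable (RP R)]
    (hmax : ∀ (P : Over (Spec (CommRingCat.of k))) [GrpObj P] (iP : P ⟶ G₀) [IsMonHom iP], IsClosedImmersion iP.left →
      Smooth P.hom → ConnectedSpace P.left → AlgGrp.IsNormalHom iP → Red.IsSolvableGrp P →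
      ∃ f : P ⟶ R, f ≫ r₀ ≫ j = iP ≫ j)
    (q : G₀ ⟶ Q₁) [IsMonHom q] [Surjective q.left] (hq : AlgGrp.IsKernel r₀ q)
    {U : Over (Spec (CommRingCat.of k))} [GrpObj U] (i : U ⟶ Q₁) [IsMonHom i] [IsClosedImmersion i.left]
    [Smooth U.hom] [ConnectedSpace U.left] [Group.IsSolvable (RP U)] (hn : AlgGrp.IsNormalHom i) :
    ∀ z : RP U, z = 1 := by
  obtain ⟨R', _, r', p, hrm, hpm, hrc, hRs, hRc, hrn, hps, hp⟩ := exists_normal_cover q i hn
  haveI := hrm; haveI := hpm; haveI := hrc; haveI := hRs; haveI := hRc; haveI := hps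
  haveI : Mono r' := GrpField.SchImg.mono_of_isClosedImmersion r'
  haveI : Mono i := GrpField.SchImg.mono_of_isClosedImmersion i
  haveI : IsAffineHom G₀.hom := isAffineHom_of_isAffine G₀.hom
  haveI : QuasiCompact R'.hom := by rw [← Over.w r']; infer_instance
  haveI : Group.IsSolvable (RP R') := isSolvable_of_ker p r' r₀ fun x hx => by
    have h1 : (x ≫ r') ≫ q = 1 := by
      rw [Category.assoc, ← hp, ← Category.assoc, hx, MonObj.one_comp]
    exact ⟨hq.lift (x ≫ r') (toUnit _) (by rw [h1, Hom.one_def]), hq.lift_fst _ _ _⟩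
  obtain ⟨f, hf⟩ := hmax R' r' hrc hRs hRc hrn (isSolvableGrp_of_rp R')
  rw [← Category.assoc, cancel_mono] at hf
  intro z
  haveI : LocallyOfFiniteType U.hom := inferInstance
  obtain ⟨y, hy⟩ := exists_rp_of_mem_range p z (p.left.surjective _)
  have hrq : r' ≫ q = 1 := by
    rw [← hf, Category.assoc, hq.w, ← Category.assoc, toUnit_unique (f ≫ toUnit R) (toUnit R'), Hom.one_def]
  rw [← cancel_mono i, ← hy, Category.assoc, hp, hrq, MonObj.comp_one, MonObj.one_comp]

/-- The quotient by a subgroup containing all normal connected solvable subgroups is semisimple. -/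
theorem isSemisimpleOver_quotient [IsAffine G₀.left] [Smooth G₀.hom] [ConnectedSpace G₀.left]
    [IsAffine Q₁.left] [Smooth Q₁.hom] [QuasiCompact Q₁.hom] [ConnectedSpace Q₁.left]
    (j : G₀ ⟶ H) [IsMonHom j] [Mono j] (r₀ : R ⟶ G₀) [IsMonHom r₀] [Group.IsSolvable (RP R)]
    (hmax : ∀ (P : Over (Spec (CommRingCat.of k))) [GrpObj P] (iP : P ⟶ G₀) [IsMonHom iP], IsClosedImmersion iP.left →
      Smooth P.hom → ConnectedSpace P.left → AlgGrp.IsNormalHom iP → Red.IsSolvableGrp P →
      ∃ f : P ⟶ R, f ≫ r₀ ≫ j = iP ≫ j)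
    (q : G₀ ⟶ Q₁) [IsMonHom q] [Surjective q.left] (hq : AlgGrp.IsKernel r₀ q) :
    Red.IsSemisimpleOver k Q₁ := by
  refine ⟨⟨inferInstance, inferInstance, inferInstance, fun U _ i _ hic hUs hUc hUn hUt => ?_⟩,
    fun S _ i _ hic hSn hS => ?_⟩
  · haveI := hic; haveI := hUs; haveI := hUc
    haveI : IsAffine U.left := isAffine_of_isAffineHom i.left
    haveI := RedCent.isSolvable_of_noSubtorus hUt
    haveI : IsReduced U.left := SmoothRed.isReduced_of_smooth_scheme U.hom
    haveI : LocallyOfFiniteType U.hom := inferInstance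
    exact isTrivialGrp_of_rp (eq_one_of_normal_solvable j r₀ hmax q hq i hUn)
  · haveI := hic
    haveI := smooth_of_isTorus hS
    haveI := connectedSpace_of_isTorus hS
    haveI : IsReduced S.left := SmoothRed.isReduced_of_smooth_scheme S.hom
    haveI : LocallyOfFiniteType S.hom := inferInstance
    haveI : Group.IsSolvable (RP S) := Group.isSolvable_of_comm fun x y => rp_torus_comm hS x y
    exact isTrivialGrp_of_rp (eq_one_of_normal_solvable j r₀ hmax q hq i hSn)

/-- A solvable semisimple group is trivial. -/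
theorem eq_one_of_semisimple_solvable {S : Over (Spec (CommRingCat.of k))} [GrpObj S]
    (hS : Red.IsSemisimpleOver k S) [Group.IsSolvable (RP S)] : ∀ z : RP S, z = 1 := by
  obtain ⟨⟨hSa, hSs, hSc, hred⟩, htor⟩ := id hS
  haveI := hSa; haveI := hSs; haveI := hSc
  haveI : IsReduced S.left := SmoothRed.isReduced_of_smooth_scheme S.hom
  obtain ⟨V, _, v, hv, hVa, hVc, hVt, -, T₀, _, iT₀, π₀, hiT₀, hπ₀, hsec, hT₀, hfac⟩ := exists_radical_core S
  obtain ⟨hvm, hvc, hvn, hvs, -, -, -⟩ := id hv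
  haveI := hvm; haveI := hvc; haveI := hvs; haveI := hVc; haveI := hiT₀; haveI := hπ₀
  have hV : Red.IsTrivialGrp V := hred V v hvc hvs hVc hvn hVt
  let ρ : S ⟶ S := 𝟙 S * (π₀ ≫ iT₀)⁻¹
  have hρ : ρ ≫ π₀ = 1 := by
    simp only [ρ, MonObj.mul_comp, GrpObj.inv_comp, Category.id_comp, Category.assoc, hsec, Category.comp_id,
      mul_inv_cancel]
  obtain ⟨f', hf'⟩ := hfac S ρ 1 hρ (by
    simp only [ρ, MonObj.comp_mul, GrpObj.comp_inv, Category.comp_id, MonObj.one_comp, inv_one, _root_.mul_one])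
  haveI : IsIso V.hom := hV
  have hf1 : f' = 1 := Over.OverMorphism.ext ((cancel_mono V.hom).1 (by rw [Over.w, Over.w]))
  have hρ1 : ρ = 1 := by rw [← hf', hf1, MonObj.one_comp]
  have hid : π₀ ≫ iT₀ = 𝟙 S := (mul_inv_eq_one.1 hρ1).symm
  let e : T₀ ≅ S := ⟨iT₀, π₀, hsec, hid⟩
  haveI : IsMonHom e.hom := hiT₀
  have hStor : Red.IsTorus S := isTorus_of_iso e hT₀
  haveI : IsClosedImmersion (𝟙 S : S ⟶ S).left := inferInstanceAs (IsClosedImmersion (𝟙 S.left))
  have htriv : Red.IsTrivialGrp S := htor S (𝟙 S) inferInstance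
    (fun X g n => ⟨g * n * g⁻¹, by rw [Category.comp_id, Category.comp_id]⟩) hStor
  haveI : IsIso S.hom := htriv
  exact fun z => Over.OverMorphism.ext ((cancel_mono S.hom).1 (by rw [Over.w, Over.w]))

/-- The image of a normal subgroup under a surjection is normal. -/
theorem isNormalHom_image {G Q N I : Over (Spec (CommRingCat.of k))} [GrpObj G] [GrpObj Q] [GrpObj N] [GrpObj I]
    [LocallyOfFiniteType G.hom] [LocallyOfFiniteType N.hom] [Smooth Q.hom] [Smooth I.hom]
    (π : G ⟶ Q) [IsMonHom π] [Surjective π.left] (iN : N ⟶ G) [IsMonHom iN] (hn : AlgGrp.IsNormalHom iN)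
    (i : I ⟶ Q) [IsMonHom i] [IsClosedImmersion i.left] (g : N ⟶ I) [IsMonHom g] [Surjective g.left]
    (hg : g ≫ i = iN ≫ π) : AlgGrp.IsNormalHom i := by
  haveI : Smooth (Q ⊗ I).hom := by
    show Smooth (pullback.fst Q.hom I.hom ≫ Q.hom)
    infer_instance
  haveI : IsReduced (Q ⊗ I).left := SmoothRed.isReduced_of_smooth_scheme (Q ⊗ I).hom
  let F : Q ⊗ I ⟶ Q := fst Q I * (snd Q I ≫ i) * (fst Q I)⁻¹
  obtain ⟨m, hm⟩ := exists_lift_rp F i fun z => by
    obtain ⟨a, ha⟩ := exists_rp_of_mem_range π (z ≫ fst Q I) (π.left.surjective _)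
    obtain ⟨b, hb⟩ := exists_rp_of_mem_range g (z ≫ snd Q I) (g.left.surjective _)
    obtain ⟨b', hb'⟩ := hn _ a b
    refine ⟨rpt (b' ≫ g), ?_⟩
    rw [map_rpt]
    congr 1
    simp only [F, MonObj.comp_mul, GrpObj.comp_inv]
    rw [← Category.assoc z (snd Q I) i, ← ha, ← hb, Category.assoc, Category.assoc, hg]
    simp only [← Category.assoc]
    rw [← hb']
    simp only [MonObj.mul_comp, GrpObj.inv_comp, Category.assoc]
  intro X a z
  refine ⟨lift a z ≫ m, ?_⟩
  rw [Category.assoc, hm, MonObj.comp_mul, MonObj.comp_mul, GrpObj.comp_inv, CartesianMonoidalCategory.lift_snd_assoc,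
    CartesianMonoidalCategory.lift_fst]

/-- Restricting a normal subgroup to an intermediate subgroup. -/
theorem isNormalHom_of_comp {G M N : Over (Spec (CommRingCat.of k))} [GrpObj G] [GrpObj M] [GrpObj N]
    (j : M ⟶ G) [IsMonHom j] [Mono j] (f : N ⟶ M) (h : AlgGrp.IsNormalHom (f ≫ j)) : AlgGrp.IsNormalHom f := by
  intro X g n
  obtain ⟨n', hn'⟩ := h X (g ≫ j) n
  refine ⟨n', (cancel_mono j).1 ?_⟩
  rw [MonObj.mul_comp, MonObj.mul_comp, GrpObj.inv_comp, Category.assoc, hn', Category.assoc]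

theorem smooth_of_flat_surjective {G Q : Over (Spec (CommRingCat.of k))} [GrpObj Q] [Smooth G.hom]
    [LocallyOfFiniteType Q.hom] (π : G ⟶ Q) [Flat π.left] [Surjective π.left] : Smooth Q.hom := by
  haveI : IsReduced G.left := SmoothRed.isReduced_of_smooth_scheme G.hom
  haveI : IsReduced Q.left := FlatMor.isReduced_of_flat_surjective π.left
  letI : GrpObj (Over.mk Q.hom) := ‹GrpObj Q›
  exact GrpBasic.smooth_of_grpObj_perfect Q.hom

/-- **A quotient maps the solvable part onto the solvable part.** -/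
theorem exists_solvPart_map {G Q NG NQ : Over (Spec (CommRingCat.of k))} [GrpObj G] [GrpObj Q] [GrpObj NG] [GrpObj NQ]
    [Smooth G.hom] [IsAffine G.left] [LocallyOfFiniteType Q.hom] [QuasiCompact Q.hom]
    (π : G ⟶ Q) [IsMonHom π] [Flat π.left] [Surjective π.left]
    (iG : NG ⟶ G) [IsMonHom iG] [IsClosedImmersion iG.left]
    [Smooth NG.hom] [ConnectedSpace NG.left] (hNGs : Red.IsSolvableGrp NG) (hNG : AlgGrp.IsNormalHom iG)
    (hNGmax : ∀ (N' : Over (Spec (CommRingCat.of k))) [GrpObj N'] (i' : N' ⟶ G) [IsMonHom i'] [IsClosedImmersion i'.left]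
      [Smooth N'.hom] [ConnectedSpace N'.left], Red.IsSolvableGrp N' → AlgGrp.IsNormalHom i' → ∃ f : N' ⟶ NG, f ≫ iG = i')
    (iQ : NQ ⟶ Q) [IsMonHom iQ] [IsClosedImmersion iQ.left]
    [Smooth NQ.hom] [ConnectedSpace NQ.left] (hNQs : Red.IsSolvableGrp NQ) (hNQ : AlgGrp.IsNormalHom iQ)
    (hNQmax : ∀ (N' : Over (Spec (CommRingCat.of k))) [GrpObj N'] (i' : N' ⟶ Q) [IsMonHom i'] [IsClosedImmersion i'.left]
      [Smooth N'.hom] [ConnectedSpace N'.left], Red.IsSolvableGrp N' → AlgGrp.IsNormalHom i' → ∃ f : N' ⟶ NQ, f ≫ iQ = i') :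
    ∃ f : NG ⟶ NQ, f ≫ iQ = iG ≫ π ∧ Surjective f.left := by
  haveI : IsAffineHom G.hom := isAffineHom_of_isAffine G.hom
  haveI : Smooth Q.hom := smooth_of_flat_surjective π
  haveI : IsReduced NG.left := SmoothRed.isReduced_of_smooth_scheme NG.hom
  haveI : QuasiCompact NG.hom := by rw [← Over.w iG]; infer_instance
  haveI : QuasiCompact NQ.hom := by rw [← Over.w iQ]; infer_instance
  haveI : Mono iG := GrpField.SchImg.mono_of_isClosedImmersion iG
  haveI : Mono iQ := GrpField.SchImg.mono_of_isClosedImmersion iQ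
  haveI : Group.IsSolvable (RP NG) := isSolvable_rp hNGs
  haveI : Group.IsSolvable (RP NQ) := isSolvable_rp hNQs
  -- identity components
  obtain ⟨G₀, _, j, hjm, hjo, hjc, hG₀c, -⟩ := RedOpen.exists_open_connected G
  haveI := hjm; haveI := hjo; haveI := hjc; haveI := hG₀c
  haveI : IsAffine G₀.left := isAffine_of_isAffineHom j.left
  haveI : IsAffineHom G₀.hom := isAffineHom_of_isAffine G₀.hom
  haveI : Smooth G₀.hom := by rw [← Over.w j]; infer_instance
  haveI : Mono j := Over.mono_of_mono_left j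
  obtain ⟨Q₀, _, jQ, hjQm, hjQo, hjQc, hQ₀c, hQ₀cp⟩ := RedOpen.exists_open_connected Q
  haveI := hjQm; haveI := hjQo; haveI := hjQc; haveI := hQ₀c; haveI := hQ₀cp
  haveI : Smooth Q₀.hom := by rw [← Over.w jQ]; infer_instance
  haveI : QuasiCompact Q₀.hom := by rw [← Over.w jQ]; infer_instance
  haveI : IsReduced Q₀.left := SmoothRed.isReduced_of_smooth_scheme Q₀.hom
  haveI : Mono jQ := Over.mono_of_mono_left jQ
  obtain ⟨π₀, hπ₀, hπ₀m⟩ := UniRad.exists_factor_conn_hom jQ (j ≫ π)
  haveI := hπ₀m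
  haveI : Surjective π₀.left := by
    haveI : IsLocallyNoetherian Q.left := LocallyOfFiniteType.isLocallyNoetherian Q.hom
    haveI : LocallyOfFiniteType (π.left ≫ Q.hom) := by rw [Over.w π]; infer_instance
    haveI : LocallyOfFiniteType π.left := locallyOfFiniteType_of_comp π.left Q.hom
    haveI : LocallyOfFinitePresentation π.left := LocallyOfFinitePresentation.iff_locallyOfFiniteType.2 ‹_›
    haveI : IsSeparated Q₀.hom := GrpField.isSeparated_hom Q₀
    haveI : QuasiCompact π₀.left := by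
      haveI : QuasiCompact (π₀.left ≫ Q₀.hom) := by rw [Over.w π₀]; infer_instance
      exact QuasiCompact.of_comp π₀.left Q₀.hom
    have hopen : IsOpen (Set.range π₀.left) := by
      rw [← Set.preimage_image_eq (Set.range π₀.left) jQ.left.isOpenEmbedding.injective, ← Set.range_comp]
      refine IsOpen.preimage jQ.left.continuous ?_
      rw [← TopCat.coe_comp, ← Scheme.Hom.comp_base, ← Over.comp_left, hπ₀, Over.comp_left, Scheme.Hom.comp_base,
        TopCat.coe_comp, Set.range_comp]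
      exact π.left.isOpenMap _ j.left.isOpenEmbedding.isOpen_range
    have hsub := GrpField.isSubgroupSet_range π₀
    have hclopen : IsClopen (Set.range π₀.left) := ⟨hsub.isClosed_of_isOpen hopen, hopen⟩
    exact ⟨Set.range_eq_univ.1 (hclopen.eq_univ ⟨_, η[G₀].left (IsLocalRing.closedPoint k), rfl⟩)⟩
  haveI : IsSeparated Q₀.hom := GrpField.isSeparated_hom Q₀
  haveI : IsAffine Q₀.left := isAffine_of_surjective π₀
  haveI : IsAffineHom Q₀.hom := isAffineHom_of_isAffine Q₀.hom
  -- the radical of the source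
  obtain ⟨R, _, r, hrm, hrc, hRs, hRc, hrn, hRsol, hRmax⟩ := GModLib.exists_radical j
  haveI := hrm; haveI := hrc; haveI := hRs; haveI := hRc
  haveI : Group.IsSolvable (RP R) := isSolvable_rp hRsol
  obtain ⟨r₀, hr₀, hr₀m⟩ := UniRad.exists_factor_conn_hom j r
  haveI := hr₀m
  haveI : IsClosedImmersion r₀.left := by
    haveI : IsClosedImmersion (r₀.left ≫ j.left) := by rw [← Over.comp_left, hr₀]; infer_instance
    exact IsClosedImmersion.of_comp r₀.left j.left
  have hr₀n : AlgGrp.IsNormalHom r₀ := isNormalHom_of_comp j r₀ (by rw [hr₀]; exact hrn)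
  obtain ⟨ν, hν⟩ := hNGmax R r hRsol hrn
  -- the image of the solvable part
  obtain ⟨I, _, i, g, him, hgm, hic, hIs, hIq, hgs, hgi⟩ := exists_smooth_image' (iG ≫ π)
  haveI := him; haveI := hgm; haveI := hic; haveI := hIs; haveI := hIq; haveI := hgs
  haveI : ConnectedSpace I.left := g.left.surjective.connectedSpace g.left.continuous
  haveI : Group.IsSolvable (RP I) := Group.isSolvable_of_surjective (f := rpHom g) fun x => exists_rp_preimage g x
  have hin : AlgGrp.IsNormalHom i := isNormalHom_image π iG hNG i g hgi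
  obtain ⟨h, hh⟩ := hNQmax I i (isSolvableGrp_of_rp I) hin
  refine ⟨g ≫ h, by rw [Category.assoc, hh, hgi], ?_⟩
  -- pass to the identity component
  obtain ⟨i₀, hi₀, hi₀m⟩ := UniRad.exists_factor_conn_hom jQ i
  obtain ⟨n₀, hn₀, hn₀m⟩ := UniRad.exists_factor_conn_hom jQ iQ
  haveI := hi₀m; haveI := hn₀m
  haveI : IsClosedImmersion i₀.left := by
    haveI : IsClosedImmersion (i₀.left ≫ jQ.left) := by rw [← Over.comp_left, hi₀]; infer_instance
    exact IsClosedImmersion.of_comp i₀.left jQ.left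
  have hi₀n : AlgGrp.IsNormalHom i₀ := isNormalHom_of_comp jQ i₀ (by rw [hi₀]; exact hin)
  have hn₀n : AlgGrp.IsNormalHom n₀ := isNormalHom_of_comp jQ n₀ (by rw [hn₀]; exact hNQ)
  -- the two quotients
  obtain ⟨Q₁, _, q₁, hq₁m, hQ₁a, hQ₁l, hq₁f, hq₁s, hq₁k⟩ := S3278.result k G₀ R r₀ hr₀n
  haveI := hq₁m; haveI := hQ₁a; haveI := hQ₁l; haveI := hq₁f; haveI := hq₁s
  haveI : IsAffineHom Q₁.hom := isAffineHom_of_isAffine Q₁.hom
  haveI : Smooth Q₁.hom := smooth_of_flat_surjective q₁
  haveI : ConnectedSpace Q₁.left := q₁.left.surjective.connectedSpace q₁.left.continuous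
  have hQ₁ss : Red.IsSemisimpleOver k Q₁ := isSemisimpleOver_quotient j r₀
    (fun P _ iP _ h1 h2 h3 h4 h5 => by
      obtain ⟨f, hf⟩ := hRmax P iP h1 h2 h3 h4 h5
      exact ⟨f, by rw [hr₀, hf]⟩) q₁ hq₁k
  obtain ⟨Q₂, _, q₂, hq₂m, hQ₂a, hQ₂l, hq₂f, hq₂s, hq₂k⟩ := S3278.result k Q₀ I i₀ hi₀n
  haveI := hq₂m; haveI := hQ₂a; haveI := hQ₂l; haveI := hq₂f; haveI := hq₂s
  haveI : IsAffineHom Q₂.hom := isAffineHom_of_isAffine Q₂.hom
  haveI : Smooth Q₂.hom := smooth_of_flat_surjective q₂
  haveI : ConnectedSpace Q₂.left := q₂.left.surjective.connectedSpace q₂.left.continuous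
  have hkill : r₀ ≫ π₀ ≫ q₂ = toUnit R ≫ η[Q₂] := by
    have h1 : r₀ ≫ π₀ = (ν ≫ g) ≫ i₀ := (cancel_mono jQ).1 (by
      simp only [Category.assoc, hπ₀, hi₀, hgi]
      rw [← Category.assoc, hr₀, ← hν, Category.assoc])
    rw [← Category.assoc, h1, Category.assoc, hq₂k.w, ← Category.assoc, toUnit_unique ((ν ≫ g) ≫ toUnit I) (toUnit R)]
  obtain ⟨d, hdm, hd, -⟩ := S3280.result k G₀ R Q₁ Q₂ q₁ r₀ hq₁k (π₀ ≫ q₂) hkill
  haveI := hdm
  haveI : Surjective d.left := by
    haveI : Surjective (q₁.left ≫ d.left) := by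
      rw [← Over.comp_left, hd, Over.comp_left]; infer_instance
    exact Surjective.of_comp q₁.left d.left
  have hQ₂ss : Red.IsSemisimpleOver k Q₂ := isSemisimpleOver_of_surjective hQ₁ss d
  -- the image of the solvable part of the target
  obtain ⟨S, _, s, p, hsm, hpm, hsc, hSs, hSq, hps, hpe⟩ := exists_smooth_image' (n₀ ≫ q₂)
  haveI := hsm; haveI := hpm; haveI := hsc; haveI := hSs; haveI := hSq; haveI := hps
  haveI : ConnectedSpace S.left := p.left.surjective.connectedSpace p.left.continuous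
  haveI : Group.IsSolvable (RP S) := Group.isSolvable_of_surjective (f := rpHom p) fun x => exists_rp_preimage p x
  have hsn : AlgGrp.IsNormalHom s := isNormalHom_image q₂ n₀ hn₀n s p hpe
  have hS1 := eq_one_of_semisimple_solvable (UniRad.isSemisimpleOver_of_normal hQ₂ss s hsn)
  haveI : IsClosedImmersion h.left := by
    haveI : IsClosedImmersion (h.left ≫ iQ.left) := by rw [← Over.comp_left, hh]; infer_instance
    exact IsClosedImmersion.of_comp h.left iQ.left
  haveI : Surjective h.left := by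
    refine ⟨fun x => ?_⟩
    refine (Set.range_eq_univ.1 ?_) x
    haveI : JacobsonSpace NQ.left := LocallyOfFiniteType.jacobsonSpace NQ.hom
    refine Set.eq_univ_of_univ_subset ?_
    rw [← closure_closedPoints (X := NQ.left)]
    refine closure_minimal ?_ h.left.isClosedEmbedding.isClosed_range
    intro w hw
    obtain ⟨z, rfl⟩ := exists_rpt hw
    have hz : (z ≫ n₀) ≫ q₂ = toUnit (𝟙_ _) ≫ η[Q₂] := by
      rw [Category.assoc, ← hpe, ← Category.assoc, hS1 (z ≫ p), MonObj.one_comp, Hom.one_def]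
    refine ⟨rpt (hq₂k.lift (z ≫ n₀) (toUnit _) hz), ?_⟩
    rw [map_rpt]
    congr 1
    rw [← cancel_mono iQ, Category.assoc, hh, ← hi₀, ← Category.assoc, hq₂k.lift_fst, Category.assoc, hn₀]
  exact inferInstanceAs (Surjective (g.left ≫ h.left))

end Groth.Agent.SolvPart
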